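import Groth.Agent.S3603
import Groth.Agent.ShriekAffine.Fibre
import Groth.Agent.ShriekAffine.RelPerf
import Groth.Agent.ProperModel.Basic
import Groth.Agent.Shriek.CompFlat
import Groth.Agent.Shriek.OpenImm
import Groth.Agent.Shriek.RelDual
import Groth.Agent.PerfPush.Unit
import Groth.Agent.DQCoh.Pullback
import Groth.Agent.DualSch.Restrict
import Groth.Agent.DCohShriek.DualModule

/-!
The relative dualizing complex `a(O)` of a proper flat morphism of finite presentation in affine charts.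
-/

set_option autoImplicit false
set_option backward.isDefEq.respectTransparency false
set_option backward.isDefEq.respectTransparency.types false
set_option linter.style.haveILetI false
set_option linter.unusedSectionVars false
set_option maxHeartbeats 1600000

universe u

open CategoryTheory Limits AlgebraicGeometry TensorProduct

attribute [local instance] HasDerivedCategory.standard

namespace Groth.Agent.RigidBase

open Groth.Agent.DQCoh (RD rdComp rdCongr)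
open Groth.Agent.Shriek
open Groth.Agent.DCohShriek (isLeftAdjoint_rpushQ)

section Ring

variable {R A B : Type u} [CommRing R] [CommRing A] [CommRing B] [Algebra R A] [Algebra A B] [Algebra R B]
  [IsScalarTower R A B] [Module.Flat R A] [Algebra.FinitePresentation R A] [Module.Flat A B]
  [Algebra.FinitePresentation A B] [DRing.HasLBaseChange (algebraMap A B)]

/-- upper shrieks restrict to affine opens -/
theorem exists_shr_loc (hopen : IsOpenImmersion (Spec.map (CommRingCat.ofHom (algebraMap A B))))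
    {n : ℕ} {ψ : MvPolynomial (Fin n) R →ₐ[R] A} (hψ : Function.Surjective ψ) {M : Dual.D A}
    (h : Shr ψ M (Dual.inD R R)) :
    ∃ (k : ℕ) (θ : MvPolynomial (Fin k) R →ₐ[R] B), Function.Surjective θ ∧
      Shr θ ((DRing.LBaseChange (algebraMap A B)).obj M) (Dual.inD R R) := by
  obtain ⟨C, hC, ⟨eC⟩⟩ := DTenLib.exists_kFlat_rep M
  have hC' : Shr ψ (DerivedCategory.Q.obj C) (Dual.inD R R) := RA.of_iso h eC.symm (Iso.refl _)
  obtain ⟨m, χ, hχ⟩ := Algebra.FiniteType.iff_quotient_mvPolynomial''.1 (inferInstance : Algebra.FiniteType A B)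
  obtain ⟨L₀, hL₀⟩ := RA.exists_of χ.toRingHom (((polyD A m).obj (Dual.inD A A))⟦(m : ℤ)⟧)
  obtain ⟨L, hL, ⟨eL⟩⟩ := DTenLib.exists_kFlat_rep L₀
  have hL' : Shr χ (DerivedCategory.Q.obj L) (Dual.inD A A) := RA.of_iso hL₀ eL.symm (Iso.refl _)
  obtain ⟨k, θ, hθ, hS⟩ := Shr.comp_flat (R := R) hψ hC hC' hχ hL'
  obtain ⟨e⟩ := Shr.of_epi (epi_of_isOpenImmersion hopen) hχ (Shr.tensor (isPerfectModule_pres χ hχ) hL' hC)
  exact ⟨k, θ, hθ, RA.of_iso hS (e ≪≫ (DRing.LBaseChange (algebraMap A B)).mapIso eC) (Iso.refl _)⟩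

end Ring

/-- base change of `a(O)` -/
theorem nonempty_lpull_adjoint {X Y X' Y' : Scheme.{u}} [CompactSpace X] [QuasiSeparatedSpace X] [CompactSpace Y]
    [QuasiSeparatedSpace Y] [CompactSpace X'] [QuasiSeparatedSpace X'] [CompactSpace Y'] [QuasiSeparatedSpace Y']
    {f : X ⟶ Y} {g : Y' ⟶ Y} {f' : X' ⟶ Y'} {g' : X' ⟶ X} (hsq : IsPullback g' f' f g) [IsProper f] [Flat f]
    [LocallyOfFinitePresentation f] [DCoh.HasRpush f] [DCoh.HasRpush f'] [DCoh.HasLpull g']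
    {hf : DCoh.RpushPreservesQCoh f} {hf' : DCoh.RpushPreservesQCoh f'}
    {a : DCoh.DQCoh Y ⥤ DCoh.DQCoh X} {a' : DCoh.DQCoh Y' ⥤ DCoh.DQCoh X'}
    (adj : DCoh.RpushQ f hf ⊣ a) (adj' : DCoh.RpushQ f' hf' ⊣ a') {O : DCoh.DQCoh Y} {O' : DCoh.DQCoh Y'}
    (hO : Nonempty (O.obj ≅ DCoh.inD Y (Coh.structureModule Y)))
    (hO' : Nonempty (O'.obj ≅ DCoh.inD Y' (Coh.structureModule Y'))) :
    Nonempty ((DCoh.Lpull g').obj (a.obj O).obj ≅ (a'.obj O').obj) := by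
  haveI : QuasiCompact g := quasiCompact_of_compactSpace g
  haveI : QuasiCompact g' := quasiCompact_of_compactSpace g'
  haveI := DerPush.hasRpush_sch g
  haveI := DerPush.hasRpush_sch g'
  haveI := KFlat.hasLpull g
  have hg : DCoh.RpushPreservesQCoh g := fun E hE => DQPush.isQCohD_rpush g hE
  have hg' : DCoh.RpushPreservesQCoh g' := fun E hE => DQPush.isQCohD_rpush g' hE
  have hLg : Dual3.LpullPreservesQCoh g := fun E hE => DQCoh.isQCohD_Lpull g E hE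
  have hLg' : Dual3.LpullPreservesQCoh g' := fun E hE => DQCoh.isQCohD_Lpull g' E hE
  obtain ⟨e, hξ, h⟩ := S3603.result X Y X' Y' f g f' g' hsq hf hf' hg hg' a a' adj adj' hLg hLg'
    (Dual3XI.adjQ hg hLg (FlatBCD.adjD g)) (Dual3XI.adjQ hg' hLg' (FlatBCD.adjD g'))
  haveI := h O
  obtain ⟨eu⟩ := PerfPush.nonempty_lpull_unit g
  let eO : (Dual3.LpullQ g hLg).obj O ≅ O' := (ObjectProperty.fullyFaithfulι _).preimageIso
    ((DCoh.Lpull g).mapIso hO.some ≪≫ eu ≪≫ hO'.some.symm)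
  exact ⟨(ObjectProperty.ι _).mapIso
    (asIso (Dual3.bcMap adj adj' e (Dual3XI.adjQ hg hLg (FlatBCD.adjD g))
      (Dual3XI.adjQ hg' hLg' (FlatBCD.adjD g')) O (hξ _)) ≪≫ a'.mapIso eO)⟩

/-- `O` inside `D_QCoh` -/
noncomputable def unitQC (Y : Scheme.{u}) : DCoh.DQCoh Y :=
  ⟨DCoh.inD Y (Coh.structureModule Y), DCohShriek.isQCohD_inD (QC.isQCoh_unit Y)⟩

/-- affine charts with a presentation, over an affine base -/
theorem exists_pres_chart {X : Scheme.{u}} {R : Type u} [CommRing R] (f : X ⟶ Spec (CommRingCat.of R)) [Flat f]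
    [LocallyOfFinitePresentation f] (x : X) :
    ∃ (A : Type u) (_ : CommRing A) (_ : Algebra R A) (_ : Module.Flat R A) (_ : Algebra.FinitePresentation R A)
      (w : Spec (CommRingCat.of A) ⟶ X) (_ : IsOpenImmersion w) (q : PrimeSpectrum A),
      w q = x ∧ Spec.map (CommRingCat.ofHom (algebraMap R A)) = w ≫ f := by
  obtain ⟨U, hU, hxU, -⟩ := exists_isAffineOpen_mem_and_subset (show x ∈ (⊤ : X.Opens) from trivial)
  let w : Spec (CommRingCat.of Γ(X, U)) ⟶ X := hU.fromSpec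
  letI : Algebra R Γ(X, U) := (Spec.preimage (w ≫ f)).hom.toAlgebra
  have hw : Spec.map (CommRingCat.ofHom (algebraMap R Γ(X, U))) = w ≫ f := Spec.map_preimage (w ≫ f)
  haveI : IsOpenImmersion w := inferInstanceAs (IsOpenImmersion hU.fromSpec)
  refine ⟨Γ(X, U), inferInstance, inferInstance, RingHom.flat_algebraMap_iff.1
    ((HasRingHomProperty.Spec_iff (P := @Flat) (φ := CommRingCat.ofHom (algebraMap R Γ(X, U)))).1
      (hw ▸ inferInstance)), RingHom.finitePresentation_algebraMap.1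
    ((HasRingHomProperty.Spec_iff (P := @LocallyOfFinitePresentation)
      (φ := CommRingCat.ofHom (algebraMap R Γ(X, U)))).1 (hw ▸ inferInstance)), w, inferInstance,
    hU.primeIdealOf ⟨x, hxU⟩, hU.fromSpec_primeIdealOf ⟨x, hxU⟩, hw⟩

/-- charts of base changes -/
theorem exists_chart_baseChange {R₀ R : Type u} [CommRing R₀] [CommRing R] [Algebra R₀ R] {X₀ X : Scheme.{u}}
    {f₀ : X₀ ⟶ Spec (CommRingCat.of R₀)} {f : X ⟶ Spec (CommRingCat.of R)} {g : X ⟶ X₀}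
    (hP : IsPullback g f f₀ (Spec.map (CommRingCat.ofHom (algebraMap R₀ R)))) [DCoh.HasLpull g]
    {A₀ : Type u} [CommRing A₀] [Algebra R₀ A₀] [Module.Flat R₀ A₀] [Algebra.FinitePresentation R₀ A₀]
    {n : ℕ} {ψ : MvPolynomial (Fin n) R₀ →ₐ[R₀] A₀} (hψ : Function.Surjective ψ)
    (w₀ : Spec (CommRingCat.of A₀) ⟶ X₀) [IsOpenImmersion w₀]
    (hw₀ : Spec.map (CommRingCat.ofHom (algebraMap R₀ A₀)) = w₀ ≫ f₀) {ω₀ : DCoh.D X₀} {M₀ : Dual.D A₀}
    (hM : Shr ψ M₀ (Dual.inD R₀ R₀)) (e₀ : (RD w₀).obj ω₀ ≅ (DCoh.tildeD (CommRingCat.of A₀)).obj M₀)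
    (x : X) (q₀ : PrimeSpectrum A₀) (hq₀ : w₀ q₀ = g x) :
    ∃ (A : Type u) (_ : CommRing A) (_ : Algebra R A) (_ : Module.Flat R A) (_ : Algebra.FinitePresentation R A)
      (n : ℕ) (ψ : MvPolynomial (Fin n) R →ₐ[R] A) (w : Spec (CommRingCat.of A) ⟶ X) (_ : IsOpenImmersion w)
      (q : PrimeSpectrum A) (M : Dual.D A), Function.Surjective ψ ∧ w q = x ∧
        Spec.map (CommRingCat.ofHom (algebraMap R A)) = w ≫ f ∧ Shr ψ M (Dual.inD R R) ∧
          Nonempty ((RD w).obj ((DCoh.Lpull g).obj ω₀) ≅ (DCoh.tildeD (CommRingCat.of A)).obj M) := by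
  haveI := fun (S T : Type u) [CommRing S] [CommRing T] (φ : S →+* T) => DRingKP.hasLBaseChange φ
  haveI : ∀ (R : CommRingCat.{u}), PreservesFiniteLimits (tilde.functor R) := fun _ => QC.tilde_preservesFiniteLimits
  obtain ⟨W, hW, ⟨eW⟩⟩ := DTenLib.exists_kFlat_rep M₀
  have hS : Shr ψ (DerivedCategory.Q.obj W) (Dual.inD R₀ R₀) := RA.of_iso hM eW.symm (Iso.refl _)
  -- base change
  let ir : A₀ →+* R ⊗[R₀] A₀ := (Algebra.TensorProduct.includeRight : A₀ →ₐ[R₀] R ⊗[R₀] A₀).toRingHom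
  let s := Spec.map (CommRingCat.ofHom ir)
  let t := Spec.map (CommRingCat.ofHom (Algebra.TensorProduct.includeLeftRingHom : R →+* R ⊗[R₀] A₀))
  let gR := Spec.map (CommRingCat.ofHom (algebraMap R₀ R))
  have h0 : IsPullback t s gR (w₀ ≫ f₀) := by
    rw [← hw₀]
    refine IsPullback.of_iso_pullback ⟨?_⟩ (pullbackSpecIso R₀ R A₀).symm (pullbackSpecIso_inv_fst R₀ R A₀)
      (pullbackSpecIso_inv_snd R₀ R A₀)
    show t ≫ _ = s ≫ _
    rw [show t = (pullbackSpecIso R₀ R A₀).inv ≫ pullback.fst _ _ from (pullbackSpecIso_inv_fst R₀ R A₀).symm,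
      show s = (pullbackSpecIso R₀ R A₀).inv ≫ pullback.snd _ _ from (pullbackSpecIso_inv_snd R₀ R A₀).symm,
      Category.assoc, Category.assoc, pullback.condition]
  have h1 : IsPullback s t (w₀ ≫ f₀) gR := h0.flip
  let kk : Spec (CommRingCat.of (R ⊗[R₀] A₀)) ⟶ X :=
    hP.lift (s ≫ w₀) t (by rw [Category.assoc]; exact h1.w)
  have hk1 : kk ≫ g = s ≫ w₀ := hP.lift_fst _ _ _
  have hk2 : kk ≫ f = t := hP.lift_snd _ _ _
  have hsq : IsPullback s kk w₀ g :=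
    IsPullback.of_bot (h₁₁ := s) (v₂₂ := f₀) (v₂₁ := f) (by
      show IsPullback s (kk ≫ f) (w₀ ≫ f₀) gR
      rw [hk2]; exact h1) hk1.symm hP
  haveI : IsOpenImmersion kk :=
    MorphismProperty.of_isPullback (P := @IsOpenImmersion) hsq ‹_›
  obtain ⟨q, hq⟩ : x ∈ Set.range kk := by
    obtain ⟨z, -, hz⟩ := Scheme.Pullback.exists_preimage_pullback (f := w₀) (g := g) q₀ x hq₀
    exact ⟨hsq.isoPullback.inv z, (congr($(hsq.isoPullback_inv_snd) z)).trans hz⟩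
  haveI := KFlat.hasLpull s
  haveI := KFlat.hasLpull (s ≫ w₀)
  obtain ⟨e1⟩ := ShriekAffine.nonempty_RD_lpull kk g (s ≫ w₀) hk1 ω₀
  obtain ⟨e2⟩ := ShriekAffine.nonempty_lpull_RD s w₀ (s ≫ w₀) rfl ω₀
  obtain ⟨et⟩ := TildeKFlat.nonempty_lpull_tildeD ir
  refine ⟨R ⊗[R₀] A₀, inferInstance, inferInstance, inferInstance, inferInstance, n, bcPres (R' := R) ψ, kk,
    inferInstance, q, DerivedCategory.Q.obj ((DTen.extCx ir).obj W), bcPres_surjective hψ, hq, ?_,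
    Shr.baseChange_self (R' := R) hψ hW hS, ⟨e1 ≪≫ e2.symm ≪≫
      (DCoh.Lpull s).mapIso e₀ ≪≫
      (et.app _).symm ≪≫ (DCoh.tildeD (CommRingCat.of (R ⊗[R₀] A₀))).mapIso
        ((DRing.LBaseChange ir).mapIso eW.symm ≪≫ lbcKFlatIso ir hW)⟩⟩
  exact hk2.symm

/-- charts over a noetherian affine base -/
theorem exists_chart_noeth {R₀ : Type u} [CommRing R₀] [IsNoetherianRing R₀] {X₀ : Scheme.{u}} [IsNoetherian X₀]
    {f₀ : X₀ ⟶ Spec (CommRingCat.of R₀)} [Flat f₀] [LocallyOfFinitePresentation f₀] (c : DEt.Compactification f₀)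
    [DCoh.HasRpush c.fbar] {hc : DCoh.RpushPreservesQCoh c.fbar}
    {a : DCoh.DQCoh (Spec (CommRingCat.of R₀)) ⥤ DCoh.DQCoh c.Xbar} (adj : DCoh.RpushQ c.fbar hc ⊣ a)
    {O : DCoh.DQCoh (Spec (CommRingCat.of R₀))}
    (hO : Nonempty (O.obj ≅ DCoh.inD (Spec (CommRingCat.of R₀)) (Coh.structureModule _))) (x : X₀) :
    ∃ (A₀ : Type u) (_ : CommRing A₀) (_ : Algebra R₀ A₀) (_ : Module.Flat R₀ A₀)
      (_ : Algebra.FinitePresentation R₀ A₀) (n : ℕ) (ψ : MvPolynomial (Fin n) R₀ →ₐ[R₀] A₀)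
      (w₀ : Spec (CommRingCat.of A₀) ⟶ X₀) (_ : IsOpenImmersion w₀) (q₀ : PrimeSpectrum A₀) (M : Dual.D A₀),
      Function.Surjective ψ ∧ w₀ q₀ = x ∧ Spec.map (CommRingCat.ofHom (algebraMap R₀ A₀)) = w₀ ≫ f₀ ∧
        Shr ψ M (Dual.inD R₀ R₀) ∧
          Nonempty ((RD w₀).obj ((RD c.j).obj (a.obj O).obj) ≅ (DCoh.tildeD (CommRingCat.of A₀)).obj M) := by
  obtain ⟨A₀, _, _, _, _, w₀, _, q₀, hq₀, hw₀⟩ := exists_pres_chart f₀ x
  haveI : IsNoetherianRing A₀ := Algebra.FiniteType.isNoetherianRing R₀ A₀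
  obtain ⟨n, ψ, hψ⟩ := Algebra.FiniteType.iff_quotient_mvPolynomial''.1
    (inferInstance : Algebra.FiniteType R₀ A₀)
  haveI := DRingKP.hasLBaseChange (algebraMap R₀ (MvPolynomial (Fin n) R₀))
  obtain ⟨Rψ, ⟨adjψ⟩⟩ := ShriekAffine.exists_adjoint ψ.toRingHom
  obtain ⟨e₀⟩ := ShriekAffine.nonempty_shriek_unit c adj hO hψ adjψ (𝟙 _) w₀ (by rw [Category.comp_id, hw₀])
  exact ⟨A₀, _, _, ‹_›, ‹_›, n, ψ, w₀, ‹_›, q₀, _, hψ, hq₀, hw₀, shr_shriekVia ψ Rψ adjψ _, ⟨e₀⟩⟩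

/-- charts over an affine base -/
theorem exists_chart_affine {X : Scheme.{u}} {R : Type u} [CommRing R] (f : X ⟶ Spec (CommRingCat.of R))
    [IsProper f] [Flat f] [LocallyOfFinitePresentation f] [DCoh.HasRpush f] {hf : DCoh.RpushPreservesQCoh f}
    {a : DCoh.DQCoh (Spec (CommRingCat.of R)) ⥤ DCoh.DQCoh X} (adj : DCoh.RpushQ f hf ⊣ a)
    {O : DCoh.DQCoh (Spec (CommRingCat.of R))}
    (hO : Nonempty (O.obj ≅ DCoh.inD (Spec (CommRingCat.of R)) (Coh.structureModule _))) (x : X) :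
    ∃ (A : Type u) (_ : CommRing A) (_ : Algebra R A) (_ : Module.Flat R A) (_ : Algebra.FinitePresentation R A)
      (n : ℕ) (ψ : MvPolynomial (Fin n) R →ₐ[R] A) (w : Spec (CommRingCat.of A) ⟶ X) (_ : IsOpenImmersion w)
      (q : PrimeSpectrum A) (M : Dual.D A), Function.Surjective ψ ∧ w q = x ∧
        Spec.map (CommRingCat.ofHom (algebraMap R A)) = w ≫ f ∧ Shr ψ M (Dual.inD R R) ∧
          Nonempty ((RD w).obj (a.obj O).obj ≅ (DCoh.tildeD (CommRingCat.of A)).obj M) := by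
  haveI := fun (S T : Type u) [CommRing S] [CommRing T] (φ : S →+* T) => DRingKP.hasLBaseChange φ
  haveI : ∀ (R : CommRingCat.{u}), PreservesFiniteLimits (tilde.functor R) := fun _ => QC.tilde_preservesFiniteLimits
  obtain ⟨R₀, hR₀, X₀, f₀, g, _, _, _, hP⟩ := ProperModel.exists_model f
  haveI : Algebra.FiniteType ℤ ↥R₀ := (Subalgebra.fg_iff_finiteType R₀).1 hR₀
  haveI : IsNoetherianRing ↥R₀ := Algebra.FiniteType.isNoetherianRing ℤ ↥R₀
  haveI : IsNoetherian (Spec (CommRingCat.of ↥R₀)) := inferInstance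
  haveI : IsNoetherian X₀ := DCohShriek.isNoetherian_of_proper f₀
  haveI : CompactSpace X := QuasiCompact.compactSpace_of_compactSpace f
  haveI : QuasiSeparatedSpace X := quasiSeparatedSpace_of_quasiSeparated f
  let c : DEt.Compactification f₀ := ⟨X₀, 𝟙 _, f₀, inferInstance, inferInstance, Category.id_comp _⟩
  haveI := DerPush.hasRpush_sch f₀
  haveI : DCoh.HasRpush c.fbar := DerPush.hasRpush_sch f₀
  have hc : DCoh.RpushPreservesQCoh c.fbar := fun E hE => DQPush.isQCohD_rpush f₀ hE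
  have hf₀ : DCoh.RpushPreservesQCoh f₀ := hc
  haveI := isLeftAdjoint_rpushQ f₀ hf₀
  let a₀ := (DCoh.RpushQ f₀ hf₀).rightAdjoint
  let adj₀ : DCoh.RpushQ f₀ hf₀ ⊣ a₀ := Adjunction.ofIsLeftAdjoint _
  let O₀ := unitQC (Spec (CommRingCat.of ↥R₀))
  haveI := KFlat.hasLpull g
  obtain ⟨eb⟩ := nonempty_lpull_adjoint hP adj₀ adj (O := O₀) ⟨Iso.refl _⟩ hO
  -- the chart of the model
  obtain ⟨A₀, _, _, _, _, n, ψ, w₀, _, q₀, M₀, hψ, hq₀, hw₀, hM₀, ⟨e₀⟩⟩ :=
    exists_chart_noeth c (hc := hc) (a := a₀) adj₀ (O := O₀) ⟨Iso.refl _⟩ (g x)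
  obtain ⟨A, i1, i2, i3, i4, m, θ, w, i5, q, M, hθ, hq, hw, hS, ⟨e⟩⟩ := exists_chart_baseChange hP hψ w₀ hw₀
    (ω₀ := (a₀.obj O₀).obj) hM₀
    ((RD w₀).mapIso ((PerfGen.rdId X₀).app (a₀.obj O₀).obj).symm ≪≫ e₀) x q₀ hq₀
  exact ⟨A, i1, i2, i3, i4, m, θ, w, i5, q, M, hθ, hq, hw, hS, ⟨(RD w).mapIso eb.symm ≪≫ e⟩⟩

variable {X Y : Scheme.{u}} [CompactSpace Y] [QuasiSeparatedSpace Y] (f : X ⟶ Y) [IsProper f] [Flat f]
  [LocallyOfFinitePresentation f] [DCoh.HasRpush f] {hf : DCoh.RpushPreservesQCoh f}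
  {a : DCoh.DQCoh Y ⥤ DCoh.DQCoh X} (adj : DCoh.RpushQ f hf ⊣ a)
  {O : DCoh.DQCoh Y} (hO : Nonempty (O.obj ≅ DCoh.inD Y (Coh.structureModule Y)))

include adj hO

/-- **`a(O)` is an upper shriek in affine charts** -/
theorem exists_shr_chart (x : X) (W : X.Opens) (hxW : x ∈ W) :
    ∃ (R A : Type u) (_ : CommRing R) (_ : CommRing A) (_ : Algebra R A) (_ : Module.Flat R A)
      (_ : Algebra.FinitePresentation R A) (n : ℕ) (ψ : MvPolynomial (Fin n) R →ₐ[R] A)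
      (v : Spec (CommRingCat.of R) ⟶ Y) (_ : IsOpenImmersion v) (w : Spec (CommRingCat.of A) ⟶ X)
      (_ : IsOpenImmersion w) (q : PrimeSpectrum A) (M : Dual.D A), Function.Surjective ψ ∧ w q = x ∧
        Set.range w ⊆ W ∧ Spec.map (CommRingCat.ofHom (algebraMap R A)) ≫ v = w ≫ f ∧
          Shr ψ M (Dual.inD R R) ∧
            Nonempty ((RD w).obj (a.obj O).obj ≅ (DCoh.tildeD (CommRingCat.of A)).obj M) := by
  haveI := fun (S T : Type u) [CommRing S] [CommRing T] (φ : S →+* T) => DRingKP.hasLBaseChange φ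
  haveI : ∀ (R : CommRingCat.{u}), PreservesFiniteLimits (tilde.functor R) := fun _ => QC.tilde_preservesFiniteLimits
  haveI : CompactSpace X := QuasiCompact.compactSpace_of_compactSpace f
  haveI : QuasiSeparatedSpace X := quasiSeparatedSpace_of_quasiSeparated f
  obtain ⟨V, hV, hxV, -⟩ := exists_isAffineOpen_mem_and_subset (show f x ∈ (⊤ : Y.Opens) from trivial)
  let R : Type u := Γ(Y, V)
  let v : Spec (CommRingCat.of R) ⟶ Y := hV.fromSpec
  haveI : IsOpenImmersion v := inferInstanceAs (IsOpenImmersion hV.fromSpec)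
  let k := pullback.fst f v
  let f₁ := pullback.snd f v
  haveI : CompactSpace ↥(pullback f v) := QuasiCompact.compactSpace_of_compactSpace f₁
  haveI : QuasiSeparatedSpace ↥(pullback f v) := quasiSeparatedSpace_of_quasiSeparated f₁
  haveI := DerPush.hasRpush_sch f₁
  have hf₁ : DCoh.RpushPreservesQCoh f₁ := fun E hE => DQPush.isQCohD_rpush f₁ hE
  haveI := isLeftAdjoint_rpushQ f₁ hf₁
  let adj₁ := Adjunction.ofIsLeftAdjoint (DCoh.RpushQ f₁ hf₁)
  haveI := KFlat.hasLpull k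
  obtain ⟨eb⟩ := nonempty_lpull_adjoint (IsPullback.of_hasPullback f v) adj adj₁
    (O' := unitQC (Spec (CommRingCat.of R))) hO ⟨Iso.refl _⟩
  obtain ⟨ek⟩ := PerfPush.nonempty_lpull_RD k (a.obj O).obj
  obtain ⟨x₁, hx₁⟩ : x ∈ Set.range k := by
    obtain ⟨z, hz, -⟩ := Scheme.Pullback.exists_preimage_pullback (f := f) (g := v) x (hV.primeIdealOf ⟨f x, hxV⟩)
      (hV.fromSpec_primeIdealOf ⟨f x, hxV⟩).symm
    exact ⟨z, hz⟩
  obtain ⟨A, _, _, _, _, n, ψ, w, _, q, M, hψ, hq, hw, hS, ⟨e⟩⟩ :=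
    exists_chart_affine f₁ adj₁ (O := unitQC (Spec (CommRingCat.of R))) ⟨Iso.refl _⟩ x₁
  let w' := w ≫ k
  -- shrink
  obtain ⟨_, ⟨b, rfl⟩, hqb, hb⟩ := PrimeSpectrum.isTopologicalBasis_basic_opens.exists_subset_of_mem_open
    (show q ∈ {z : PrimeSpectrum A | w' z ∈ W} from by
      show k (w q) ∈ W
      rw [hq, hx₁]; exact hxW) (show IsOpen {z : PrimeSpectrum A | w' z ∈ W} from (w' ⁻¹ᵁ W).2)
  let B := Localization.Away b
  let j := Spec.map (CommRingCat.ofHom (algebraMap A B))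
  haveI : IsOpenImmersion j := IsOpenImmersion.of_isLocalization b
  haveI : Algebra.FinitePresentation A B := IsLocalization.Away.finitePresentation b
  haveI : Algebra.FinitePresentation R B := Algebra.FinitePresentation.trans R A B
  haveI : Module.Flat A B := IsLocalization.flat B (Submonoid.powers b)
  haveI : Module.Flat R B := Module.Flat.trans R A B
  have hrange : Set.range j = (PrimeSpectrum.basicOpen b : Set (PrimeSpectrum A)) :=
    PrimeSpectrum.localization_away_comap_range B b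
  obtain ⟨p, hp⟩ : q ∈ Set.range j := by rw [hrange]; exact hqb
  obtain ⟨l, θ, hθ, hSB⟩ := exists_shr_loc (R := R) (A := A) (B := B) ‹IsOpenImmersion j› hψ hS
  obtain ⟨er⟩ := DualSch.nonempty_restrict_tildeD (A := A) (B := B) M
  refine ⟨R, B, inferInstance, inferInstance, inferInstance, inferInstance, inferInstance, l, θ, v, inferInstance,
    j ≫ w', inferInstance, p, _, hθ, ?_, ?_, ?_, hSB, ⟨(rdComp j w').app _ ≪≫ (RD j).mapIso
      ((rdComp w k).app _ ≪≫ (RD w).mapIso (ek.symm ≪≫ eb) ≪≫ e) ≪≫ er⟩⟩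
  · show k (w (j p)) = x
    rw [hp, hq, hx₁]
  · rintro _ ⟨z, rfl⟩
    refine hb (show j z ∈ (PrimeSpectrum.basicOpen b : Set (PrimeSpectrum A)) from ?_)
    rw [← hrange]
    exact ⟨z, rfl⟩
  · rw [IsScalarTower.algebraMap_eq R A B, CommRingCat.ofHom_comp, Spec.map_comp, Category.assoc, hw,
      Category.assoc, Category.assoc, Category.assoc]
    exact congrArg (fun g => j ≫ w ≫ g) pullback.condition.symm

/-- **`a(O)` is perfect relative to the base** -/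
theorem sPerf_adjoint : (∀ m : ℤ, DCoh.IsPseudoCoherentD m (a.obj O).obj) ∧
    DCoh.LocHasFiniteRelTorDim f (a.obj O).obj := by
  have key : ∀ x : X, (∀ m : ℤ, ∃ (U : Scheme.{u}) (j : U ⟶ X) (_ : IsOpenImmersion j) (v : U),
      j.base v = x ∧ DQCoh.PCOn j m (a.obj O).obj) ∧
      ∃ (V : X.Opens) (l h : ℤ), x ∈ V ∧ ∀ y ∈ V, DQCoh.RelAmpAt f l h (a.obj O).obj y := fun x => by
    obtain ⟨R, A, _, _, _, _, _, n, ψ, v, hv, w, hwo, q, M, hψ, hq, -, hw, hS, ⟨e⟩⟩ :=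
      exists_shr_chart f adj hO x ⊤ trivial
    haveI : PreservesFiniteLimits (tilde.functor (CommRingCat.of A)) := QC.tilde_preservesFiniteLimits
    obtain ⟨hpc, htor⟩ := RelPerfAffine.sPerf_tilde R A (hS.isRelPerfect hψ)
    haveI := RelPerfAffine.flat_spec R A
    refine ⟨fun m => ?_, ?_⟩
    · obtain ⟨U, k, _, u₀, hu₀, hP⟩ := (DQCoh.pc_iff_near m _).1 (DQCoh.pc_of_iso e.symm (hpc m)) q
      exact ⟨U, k ≫ w, inferInstance, u₀, by rw [Scheme.Hom.comp_base, TopCat.comp_app, hu₀, hq],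
        DQCoh.pcOn_push k w hP⟩
    · obtain ⟨V, l, h, hqV, hV⟩ := DQCoh.locHas_iff.1 htor q
      refine ⟨w ''ᵁ V, l, h, ⟨q, hqV, hq⟩, ?_⟩
      rintro _ ⟨z, hz, rfl⟩
      exact ShriekAffine.relAmpAt_chart f w v _ hw _ z (DQCoh.relAmpAt_of_iso e.symm (hV z hz))
  exact ⟨fun m => (DQCoh.pc_iff_near m _).2 fun x => (key x).1 m, DQCoh.locHas_iff.2 fun x => (key x).2⟩

/-- **`a(O)` is locally rigid** -/
theorem rigidNear_adjoint (x : X) (W : X.Opens) (hx : x ∈ W) : RigidD.RigidNear (a.obj O).obj x W := by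
  obtain ⟨R, A, _, _, _, _, _, n, ψ, v, hv, w, hwo, q, M, hψ, hq, hW, -, hS, e⟩ := exists_shr_chart f adj hO x W hx
  obtain ⟨-, -, h0, h1⟩ := hS.self_props hψ
  exact ⟨A, _, w, hwo, M, ⟨q, hq⟩, hW, e, h0, h1⟩

end Groth.Agent.RigidBase
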